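import Mathlib
import Groth.Agent.R1Push.Support
import Groth.Agent.R1Push.Leray
import Groth.Agent.H26.Contract
import Groth.Agent.SurfRes.Germ
import Groth.Agent.QCoh.RpushStalk
import Groth.Agent.PicClLib.Basic
import Groth.Agent.S11319
import Groth.Agent.S10844

/-!
# Vanishing of the first direct image over rational singularities
-/

set_option autoImplicit false
set_option linter.style.haveILetI false
set_option linter.unusedSectionVars false
set_option backward.isDefEq.respectTransparency false
set_option backward.isDefEq.respectTransparency.types false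
set_option maxHeartbeats 800000

universe u

open CategoryTheory CategoryTheory.Limits AlgebraicGeometry TopologicalSpace Opposite
open Groth.Agent.PointBlow (locTo locB)

noncomputable section

namespace Groth.Agent.R1Model

/-- Being an isomorphism over an open is stable under base change. -/
theorem isIso_snd_restrict {X' X T : Scheme.{u}} (ρ : X' ⟶ X) (h : T ⟶ X) (U : X.Opens) [IsIso (ρ ∣_ U)] :
    IsIso (pullback.snd ρ h ∣_ (h ⁻¹ᵁ U)) := by
  have h1 : IsPullback _ (pullback.snd ρ h ∣_ (h ⁻¹ᵁ U)) ρ ((h ⁻¹ᵁ U).ι ≫ h) :=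
    (isPullback_morphismRestrict (pullback.snd ρ h) (h ⁻¹ᵁ U)).flip.paste_horiz (IsPullback.of_hasPullback ρ h)
  rw [← morphismRestrict_ι h U] at h1
  have h2 : IsPullback (ρ ⁻¹ᵁ U).ι (ρ ∣_ U) ρ U.ι := (isPullback_morphismRestrict ρ U).flip
  have h3 := IsPullback.of_right (by rw [h2.lift_fst]; exact h1) (h2.lift_snd _ _
    (h1.w.trans (Category.assoc _ _ _).symm)) h2
  exact MorphismProperty.of_isPullback (P := MorphismProperty.isomorphisms Scheme.{u}) h3
    (inferInstanceAs (IsIso (ρ ∣_ U)))

variable {X' X : Scheme.{u}} [IsIntegral X] [IsNoetherian X] [IsIntegral X'] (ρ : X' ⟶ X) [IsProper ρ]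

theorem isIso_stalkMap_generic {U : X.Opens} (hU : (U : Set X).Nonempty) [IsIso (ρ ∣_ U)] :
    IsIso (ρ.stalkMap (genericPoint X')) := by
  have hxU : genericPoint X' ∈ ρ ⁻¹ᵁ U := by
    show ρ (genericPoint X') ∈ U
    rw [H26.BiratFibre.apply_genericPoint_eq ρ hU]
    exact ((genericPoint_spec X).mem_open_set_iff U.2).2 (by simpa using hU)
  exact (MorphismProperty.isomorphisms CommRingCat).arrow_mk_iso_iff
      (morphismRestrictStalkMap ρ U ⟨genericPoint X', hxU⟩) |>.1 (inferInstanceAs (IsIso _))

/-- The stalk at a closed point with a rational singularity. -/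
theorem subsingleton_stalk_closed (hn' : Pi1.IsNormalScheme X') {U : X.Opens} (hU : (U : Set X).Nonempty)
    [IsIso (ρ ∣_ U)] [HasInjectiveResolutions X'.Modules] (x : X)
    (hrat : Curv2.IsRationalSing (X.presheaf.stalk x)) :
    Subsingleton (((Coh.Rpush ρ 1).obj (Coh.structureModule X')).presheaf.stalk x) := by
  obtain ⟨_, -, -⟩ := SurfRes.exists_integral_loc (g := ρ) (x := x) (isIso_stalkMap_generic ρ hU)
  let P := pullback ρ (X.fromSpecStalk x)
  letI : P.Over (Spec (CommRingCat.of (X.presheaf.stalk x))) := ⟨pullback.snd ρ (X.fromSpecStalk x)⟩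
  haveI := isIso_snd_restrict ρ (X.fromSpecStalk x) U
  have hne : ((X.fromSpecStalk x ⁻¹ᵁ U : (Spec (X.presheaf.stalk x)).Opens) : Set ↥(Spec (X.presheaf.stalk x))).Nonempty := by
    obtain ⟨q, hq⟩ : genericPoint X ∈ Set.range (X.fromSpecStalk x) := by
      rw [Scheme.range_fromSpecStalk]; exact genericPoint_specializes x
    exact ⟨q, show X.fromSpecStalk x q ∈ U from hq ▸ ((genericPoint_spec X).mem_open_set_iff U.2).2 (by simpa using hU)⟩
  have hnP : Pi1.IsNormalScheme P := fun p => by
    haveI := SurfRes.isIso_locTo ρ x p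
    let e := (asIso ((locTo ρ x).stalkMap p)).commRingCatIsoToRingEquiv
    obtain ⟨h1, h2⟩ := hn' (locTo ρ x p)
    haveI := h1
    haveI := h2
    exact ⟨e.symm.injective.isDomain e.symm.toRingHom, IsIntegrallyClosed.of_equiv e⟩
  haveI h0 : Subsingleton (Coh.HH P (Coh.structureModule P) 1) :=
    hrat P (pullback.snd ρ (X.fromSpecStalk x)) inferInstance inferInstance hnP ⟨_, hne, inferInstance⟩
  obtain ⟨e⟩ := QCoh.nonempty_stalk_HH ρ (QCoh.isQCoh_structureModule (X := X')) x 1 P
    (pullback.fst ρ (X.fromSpecStalk x)) (IsPullback.of_hasPullback ρ (X.fromSpecStalk x))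
  haveI := QCoh.subsingleton_HH_of_iso
    (PicClLib.nonempty_pullback_structureModule (pullback.fst ρ (X.fromSpecStalk x))).some.symm 1 h0
  exact e.toEquiv.subsingleton

omit [IsIntegral X] [IsIntegral X'] in
/-- Stalks of a quasi-coherent module vanishing at a specialisation vanish. -/
theorem subsingleton_stalk_of_specializes {N : X.Modules} (hN : Coh.IsQCoh N) {x y : X} (h : x ⤳ y)
    (hy : Subsingleton (N.presheaf.stalk y)) : Subsingleton (N.presheaf.stalk x) := by
  obtain ⟨_, ⟨V, hV, rfl⟩, hyV, -⟩ :=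
    X.isBasis_affineOpens.exists_subset_of_mem_open (Set.mem_univ y) isOpen_univ
  have hxV : x ∈ V := h.mem_open V.2 hyV
  letI := QCoh.stalkAlg (X := X) hxV
  letI := QCoh.stalkModule N hxV
  haveI := QCoh.isScalarTower_stalk N hxV
  haveI := QCoh.isLocalization_stalk' hV hxV
  haveI := QCoh.isLocalizedModule_germLin hN hV hxV
  refine subsingleton_of_forall_eq 0 fun m => ?_
  obtain ⟨⟨v, s⟩, hm⟩ := IsLocalizedModule.surj (hV.primeIdealOf ⟨x, hxV⟩).asIdeal.primeCompl
    (QCoh.germLin N hxV) m
  obtain ⟨W, hyW, iW, iV, he⟩ := N.presheaf.germ_eq y hyV hyV v 0 (hy.elim _ _)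
  have hv : QCoh.germLin N hxV v = 0 := by
    show N.presheaf.germ V x hxV v = 0
    rw [← N.presheaf.germ_res_apply iW x (h.mem_open W.2 hyW) v, he, map_zero, map_zero]
  rw [hv] at hm
  have hu := ((Module.End.isUnit_iff _).1 (IsLocalizedModule.map_units (QCoh.germLin N hxV) s)).1
  exact hu (a₁ := m) (a₂ := 0) (hm.trans (map_zero _).symm)

/-- No first direct image of a modification of a scheme with rational singularities. -/
theorem isZero_Rpush_one (hn' : Pi1.IsNormalScheme X') {U : X.Opens} (hU : (U : Set X).Nonempty) [IsIso (ρ ∣_ U)]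
    [HasInjectiveResolutions X'.Modules]
    (hrat : ∀ x : X, IsClosed ({x} : Set X) → Curv2.IsRationalSing (X.presheaf.stalk x)) :
    IsZero ((Coh.Rpush ρ 1).obj (Coh.structureModule X')) := by
  refine S10844.isZero_of_stalks fun x => ?_
  obtain ⟨y, hy, hyc⟩ := IsClosed.exists_closed_singleton (isClosed_closure (s := ({x} : Set X)))
    (Set.singleton_nonempty x).closure
  exact subsingleton_stalk_of_specializes (QCoh.isQCoh_Rpush ρ QCoh.isQCoh_structureModule 1)
    (specializes_iff_mem_closure.2 hy) (subsingleton_stalk_closed ρ hn' hU y (hrat y hyc))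

omit [AlgebraicGeometry.IsNoetherian X] in
theorem isIso_unitToPush (hn : Pi1.IsNormalScheme X) {U : X.Opens} (hU : (U : Set X).Nonempty) [IsIso (ρ ∣_ U)] :
    IsIso (ClSub.unitToPush ρ) :=
  Scheme.Modules.Hom.isIso_iff_isIso_app.2 fun W => by
    rw [ConcreteCategory.isIso_iff_bijective]
    exact H26.Contract.bijective_app ρ hU hn W

end Groth.Agent.R1Model
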