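import Groth.Agent.R1Model.Main
import Groth.Agent.ExcVan.Main
import Groth.Agent.S0002
import Groth.Agent.RelPC17.BirFibre

/-!
# Vanishing on curves over a rational singularity
-/

set_option autoImplicit false
set_option linter.style.haveILetI false
set_option linter.unusedSectionVars false
set_option backward.isDefEq.respectTransparency false
set_option backward.isDefEq.respectTransparency.types false
set_option maxHeartbeats 800000

universe u

open CategoryTheory CategoryTheory.Limits AlgebraicGeometry TopologicalSpace Opposite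

noncomputable section

namespace Groth.Agent.R1Model

variable {X' X : Scheme.{u}} [IsIntegral X] [AlgebraicGeometry.IsNoetherian X] [IsIntegral X'] (ρ : X' ⟶ X) [IsProper ρ]

/-- Near a point with vanishing stalk the first cohomology vanishes. -/
theorem exists_nhd_h1 [HasInjectiveResolutions X'.Modules] (x : X)
    (h : Subsingleton (((Coh.Rpush ρ 1).obj (Coh.structureModule X')).presheaf.stalk x)) :
    ∃ V : X.Opens, IsAffineOpen V ∧ x ∈ V ∧
      Subsingleton (Coh.HH (ρ ⁻¹ᵁ V : Scheme.{u}) (Coh.structureModule (ρ ⁻¹ᵁ V : Scheme.{u})) 1) := by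
  haveI : IsLocallyNoetherian X' := LocallyOfFiniteType.isLocallyNoetherian ρ
  let N := (Coh.Rpush ρ 1).obj (Coh.structureModule X')
  have hN : Coh.IsCoh N := QCoh.isCoh_Rpush_of_finiteness (f := ρ) QCoh.isCoh_structureModule' 1
    fun A _ _ Y _ _ M hM n => S0002.result A Y M hM n
  obtain ⟨V, hV, hxV, -⟩ := exists_isAffineOpen_mem_and_subset (x := x) (U := ⊤) trivial
  letI := QCoh.stalkAlg (X := X) hxV
  letI := QCoh.stalkModule N hxV
  haveI := QCoh.isScalarTower_stalk N hxV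
  haveI := QCoh.isLocalization_stalk' hV hxV
  haveI := QCoh.isLocalizedModule_germLin hN.1 hV hxV
  haveI hfin : Module.Finite Γ(X, V) Γ(N, V) := QCoh.finite_of_isFT hN.1 hN.2 hV
  classical
  obtain ⟨s, hs, hs0⟩ : ∃ s ∈ (hV.primeIdealOf ⟨x, hxV⟩).asIdeal.primeCompl, ∀ m : Γ(N, V), s • m = 0 := by
    haveI : Subsingleton (LocalizedModule (hV.primeIdealOf ⟨x, hxV⟩).asIdeal.primeCompl Γ(N, V)) :=
      (IsLocalizedModule.iso (hV.primeIdealOf ⟨x, hxV⟩).asIdeal.primeCompl (QCoh.germLin N hxV)).toEquiv.subsingleton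
    obtain ⟨T, hT⟩ := hfin.fg_top
    choose s hs hs0 using fun m : Γ(N, V) => LocalizedModule.subsingleton_iff.1 ‹_› m
    refine ⟨∏ m ∈ T, s m, prod_mem fun m _ => hs m, fun m => ?_⟩
    induction (hT.ge (Submodule.mem_top : m ∈ ⊤)) using Submodule.span_induction with
    | mem m hm =>
      rw [← Finset.prod_erase_mul T s hm, mul_smul, hs0, smul_zero]
    | zero => exact smul_zero _
    | add a b _ _ ha hb => rw [smul_add, ha, hb, add_zero]
    | smul r a _ ha => rw [smul_comm, ha, smul_zero]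
  have hxs : x ∈ X.basicOpen s := by
    show (⟨x, hxV⟩ : V).1 ∈ X.basicOpen s
    rw [← hV.fromSpec_primeIdealOf ⟨x, hxV⟩]
    show hV.primeIdealOf ⟨x, hxV⟩ ∈ hV.fromSpec ⁻¹ᵁ X.basicOpen s
    rw [hV.fromSpec_preimage_basicOpen]
    exact hs
  refine ⟨X.basicOpen s, hV.basicOpen s, hxs, ?_⟩
  have h0 : Subsingleton Γ(N, X.basicOpen s) := by
    refine subsingleton_of_forall_eq 0 fun m => ?_
    refine QCoh.eq_zero_of_locally _ m fun z hz => ?_
    letI := QCoh.stalkAlg (X := X) (X.basicOpen_le s hz)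
    letI := QCoh.stalkModule N (X.basicOpen_le s hz)
    haveI := QCoh.isLocalization_stalk' hV (X.basicOpen_le s hz)
    haveI := QCoh.isLocalizedModule_germLin hN.1 hV (X.basicOpen_le s hz)
    have hzs : s ∈ (hV.primeIdealOf ⟨z, X.basicOpen_le s hz⟩).asIdeal.primeCompl := by
      have h1 : hV.primeIdealOf ⟨z, X.basicOpen_le s hz⟩ ∈ hV.fromSpec ⁻¹ᵁ X.basicOpen s := by
        show hV.fromSpec _ ∈ X.basicOpen s
        rw [hV.fromSpec_primeIdealOf]; exact hz
      rwa [hV.fromSpec_preimage_basicOpen] at h1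
    obtain ⟨⟨v, t⟩, hv⟩ := IsLocalizedModule.surj (hV.primeIdealOf ⟨z, X.basicOpen_le s hz⟩).asIdeal.primeCompl
      (QCoh.germLin N (X.basicOpen_le s hz)) (N.presheaf.germ (X.basicOpen s) z hz m)
    have hv0 : QCoh.germLin N (X.basicOpen_le s hz) v = 0 :=
      (IsLocalizedModule.eq_zero_iff (hV.primeIdealOf ⟨z, X.basicOpen_le s hz⟩).asIdeal.primeCompl _).2
        ⟨⟨s, hzs⟩, hs0 v⟩
    rw [hv0] at hv
    have hu := ((Module.End.isUnit_iff _).1 (IsLocalizedModule.map_units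
      (QCoh.germLin N (X.basicOpen_le s hz)) t)).1
    have hm0 : N.presheaf.germ (X.basicOpen s) z hz m = 0 :=
      hu (a₁ := N.presheaf.germ (X.basicOpen s) z hz m) (a₂ := 0) (hv.trans (map_zero _).symm)
    obtain ⟨W, hzW, i, j, he⟩ := N.presheaf.germ_eq z hz hz m 0 (hm0.trans (map_zero _).symm)
    exact ⟨W, i, hzW, he.trans (map_zero _)⟩
  obtain ⟨e⟩ := QCoh.nonempty_sections_HH (f := ρ) (QCoh.isQCoh_structureModule (X := X')) (hV.basicOpen s) 1
  exact QCoh.subsingleton_HH_of_iso (RelPC17.restrictStructureIso (ρ ⁻¹ᵁ X.basicOpen s).ι) 1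
    (e.toEquiv.symm.subsingleton)

/-- The first cohomology of a subscheme above a point near which the first cohomology vanishes. -/
theorem h1_quot {V : X.Opens} (hV : IsAffineOpen V) {x : X} (hxV : x ∈ V)
    (h1 : Subsingleton (Coh.HH (ρ ⁻¹ᵁ V : Scheme.{u}) (Coh.structureModule (ρ ⁻¹ᵁ V : Scheme.{u})) 1))
    (hd : topologicalKrullDim X ≤ (2 : ℕ)) {U : X.Opens} (hU : (U : Set X).Nonempty) [IsIso (ρ ∣_ U)]
    (W : X'.IdealSheafData) (hW : (W.support : Set X') ⊆ ρ.base ⁻¹' {x}) :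
    Subsingleton (Coh.HH X' (ClSub.quotMod W) 1) := by
  rw [ExcVan.hh_quot_iff (ρ ⁻¹ᵁ V) W (fun y hy => show ρ y ∈ V by rw [show ρ y = x from hW hy]; exact hxV) 1]
  haveI : IsAffine V.toScheme := hV
  haveI := ClosedHom7.epi_toSubscheme (W.comap (ρ ⁻¹ᵁ V).ι)
  haveI : Nonempty V := ⟨⟨x, hxV⟩⟩
  haveI : IsIntegral V.toScheme := isIntegral_of_isOpenImmersion V.ι
  obtain ⟨z, hzU, hzV⟩ := nonempty_preirreducible_inter U.isOpen V.isOpen hU ⟨x, hxV⟩
  haveI : IsIso (ρ ∣_ V ∣_ (V.ι ⁻¹ᵁ U)) := by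
    haveI : IsIso (ρ ∣_ (V ⊓ U)) := PointBlow.isIso_restrict_mono ρ (U := U) inf_le_right
    have h : MorphismProperty.isomorphisms Scheme (ρ ∣_ (V.ι ''ᵁ (V.ι ⁻¹ᵁ U))) := by
      rw [(MorphismProperty.isomorphisms Scheme).arrow_mk_iso_iff (morphismRestrictEq ρ
        (show V.ι ''ᵁ (V.ι ⁻¹ᵁ U) = V ⊓ U by rw [V.ι.image_preimage_eq_opensRange_inf, V.opensRange_ι]))]
      exact ‹IsIso (ρ ∣_ (V ⊓ U))›
    exact ((MorphismProperty.isomorphisms Scheme).arrow_mk_iso_iff (morphismRestrictRestrict ρ V _)).2 h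
  haveI : Nonempty (ρ ⁻¹ᵁ V : X'.Opens) := by
    obtain ⟨y, hy⟩ := H26.BiratFibre.surjective ρ hU x
    exact ⟨⟨y, show ρ y ∈ V by rw [hy]; exact hxV⟩⟩
  haveI : IsIntegral (ρ ⁻¹ᵁ V).toScheme := isIntegral_of_isOpenImmersion (ρ ⁻¹ᵁ V).ι
  exact (RelPC17.DimOne.hmap_surjective (ρ ∣_ V)
    (RelPC17.BirFibre.fibre_dim_le_one (ρ ∣_ V) (V.ι.isOpenEmbedding.isInducing.topologicalKrullDim_le.trans hd)
      (V.ι ⁻¹ᵁ U) ⟨⟨z, hzV⟩, hzU⟩)
    (ClSub.toSubscheme (W.comap (ρ ⁻¹ᵁ V).ι)) (QCoh.isQCoh_structureModule (X := (ρ ⁻¹ᵁ V).toScheme))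
    (QCoh.isQCoh_pushforward _ (QCoh.isQCoh_structureModule (X := (W.comap (ρ ⁻¹ᵁ V).ι).subscheme)))).subsingleton

end Groth.Agent.R1Model
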